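import Cfsg.Agent.Lib.CosetEnum.Defs

/-! Generated certificate. -/

set_option autoImplicit false
set_option maxRecDepth 20000

namespace Cfsg.Lib.Extra.SuzUnique.ShortThree

open Cfsg.Lib.CosetEnum

/-- Table data. -/
def tabC_0_0 : Tab :=
  (.node 5 (.node 3 (.node 2 (.node 1 (.leaf 0x40000000000000003) (.leaf 0x1000000000070000000000100000000000)) (.leaf 0x1000004000070000040000100000000001)) (.node 1 (.leaf 0x1000008000080000080000100000400001) (.leaf 0x100000c0000900000c0000100000800000))) (.node 2 (.node 1 (.leaf 0x10000100000a0000100000100000c00000) (.leaf 0x10000140000b0000140000100001000001)) (.node 1 (.leaf 0x10000180000c0000180000100001400001) (.leaf 0x40000500000c0000100000000002000028000040000180000100001400002))))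

/-- Table data. -/
def tabC_0 : Tab :=
  tabC_0_0

end Cfsg.Lib.Extra.SuzUnique.ShortThree
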