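import Cfsg.Agent.Lib.Extra.SuzUnique.Short.Three.TabF0
import Cfsg.Agent.Lib.Extra.SuzUnique.Short.Three.TabC0
import Cfsg.Agent.Lib.Extra.SuzUnique.Short.Three.TabP0
import Cfsg.Agent.Lib.Extra.SuzUnique.Short.Three.TabZ0

/-! Generated certificate. -/

set_option autoImplicit false
set_option maxRecDepth 20000

namespace Cfsg.Lib.Extra.SuzUnique.ShortThree

open Cfsg.Lib.CosetEnum

/-- Table. -/
def tabF : Tab :=
  tabF_0

/-- Table. -/
def tabC : Tab :=
  tabC_0

/-- Table. -/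
def tabP : Tab :=
  tabP_0

/-- Table. -/
def tabZ : Tab :=
  tabZ_0

/-- The relator rotations in use. -/
def relWords : List (List Nat) :=
  [[2, 0, 2, 0],
    [3, 0, 3, 0],
    [3, 2, 3, 2, 3, 2, 3, 0, 2]]

/-- Subgroup words. -/
def subWords : List (List Nat) :=
  [[0]]

end Cfsg.Lib.Extra.SuzUnique.ShortThree
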