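import Cfsg.Agent.Lib.CosetEnum.Defs

/-! Generated certificate. -/

set_option autoImplicit false
set_option maxRecDepth 20000

namespace Cfsg.Lib.Extra.SuzUnique.ShortThree

open Cfsg.Lib.CosetEnum

/-- Table data. -/
def tabF_0_0 : Tab :=
  (.leaf 0x380000c20000000000380000e00000000000300000c00000000000280000a00000000000200000800000000000180000600000000000100000400000000000080000200000000000000000000000000000280000e30000000000200000c30000000000180000a2000000000010000082000000000008000063000000000000000043000000000000000022)

/-- Table data. -/
def tabF_0 : Tab :=
  tabF_0_0

end Cfsg.Lib.Extra.SuzUnique.ShortThree
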